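import Cfsg.Agent.CosetEnum.Hom
import Cfsg.Agent.CosetEnum.Fi22Order.Order
import Cfsg.Agent.CosetEnum.Fi22O.Orbits
import Cfsg.Agent.CosetEnum.WordTest
import Cfsg.Agent.CosetEnum.Fi23.Setup
import Cfsg.Agent.CosetEnum.Fi23E7A.Bound
import Cfsg.Agent.CosetEnum.Fi23E7B.Bound
import Cfsg.Agent.CosetEnum.Fi23E7C.Bound
import Cfsg.Agent.CosetEnum.Fi23E7D.Bound
import Cfsg.Agent.CosetEnum.Fi23E7E.Bound
import Cfsg.Agent.CosetEnum.Fi23E7F.Bound
import Cfsg.Agent.CosetEnum.Fi23E7G.Bound

set_option autoImplicit false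
set_option maxRecDepth 100000
set_option exponentiation.threshold 200000

/-!
The relation `(a b c d h i e)^9 = 1` in the presented Fi23: the group of type Y322 on `a, …, f, h, i` has
order at most that of the subgroup O7(3) of Fi22, which is one of its images.
-/

namespace CfsgLib.CosetEnum.Fi23E7

/-- The letters as letters of Fi22. -/
def m22 (x : ℕ) : ℕ := [6, 5, 4, 3, 2, 1, 7, 8].getD x 0

/-- The letters as letters of Fi23. -/
def m23 (x : ℕ) : ℕ := [0, 1, 2, 3, 4, 5, 8, 9].getD x 0

/-- The word to be killed. -/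
def eWord : List ℕ := (List.replicate 9 [0, 1, 2, 3, 6, 7, 4]).flatten

theorem m22_lt : ∀ x, x < 8 → m22 x < 9 := by decide

theorem m23_lt : ∀ x, x < 8 → m23 x < 10 := by decide

theorem eWord_lt : ∀ x ∈ eWord, x < 8 := by decide

theorem words_lt : ∀ w ∈ words, ∀ x ∈ w, x < 8 := by decide +kernel

theorem fixes22 : words.all (fun w => fixesAll 3510 Fi22H.enum.tb (w.map m22) 12) = true := by decide +kernel

theorem eWord_fixes22 : fixesAll 3510 Fi22H.enum.tb (eWord.map m22) 12 = true := by decide +kernel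

theorem words23 : words.all (fun w => decide (w.map m23 ∈ Fi23.words)) = true := by decide +kernel

theorem card_le : Finite setup.Grp ∧ Nat.card setup.Grp ≤ 4585351680 := by
  have h1 := Fi23E7G.bound 1 ⟨setup.finite_letSub_nil, setup.card_letSub_nil⟩
  have h2 := Fi23E7F.bound _ h1
  have h3 := Fi23E7E.bound _ h2
  have h4 := Fi23E7D.bound _ h3
  have h5 := Fi23E7C.bound _ h4
  have h6 := Fi23E7B.bound _ h5
  have h7 := Fi23E7A.bound _ h6
  have htop : setup.letSub Fi23E7A.enum.L = ⊤ := setup.letSub_all _ (by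
    intro x hx
    have hx' : x < 8 := hx
    interval_cases x <;> decide +kernel)
  rw [htop] at h7
  haveI := h7.1
  refine ⟨Finite.of_equiv _ Subgroup.topEquiv.toEquiv, ?_⟩
  rw [← Nat.card_congr (Subgroup.topEquiv (G := setup.Grp)).toEquiv]
  exact h7.2.trans (by decide +kernel)

theorem prodw_map {G : Type*} [Group G] (g : ℕ → G) (m : ℕ → ℕ) (w : List ℕ) :
    prodw g (w.map m) = prodw (g ∘ m) w := by
  simp only [prodw, List.map_map]

/-- The relation in Fi23. -/
theorem eWord_one : prodw Fi23.setup.g (eWord.map m23) = 1 := by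
  obtain ⟨φ, e, hφ, -, -, hinj, hG⟩ := Fi22.order_and_action
  haveI := Fi22.finite_grp
  haveI := card_le.1
  have hfix : ∀ w : List ℕ, (∀ x ∈ w, x < 8) → fixesAll 3510 Fi22H.enum.tb (w.map m22) 12 = true →
      prodw Fi22.setup.g (w.map m22) = 1 := fun w hlt h => by
    apply hinj
    rw [map_one, ← inv_eq_one]
    ext i
    have hi : i.val < 3510 := i.2
    have h1 := allR_spec 12 0 h i (Nat.zero_le _) (by omega)
    rw [show Nat.blt i.val 3510 = true by simpa using hi] at h1
    rw [hφ _ (fun x hx => by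
      obtain ⟨y, hy, rfl⟩ := List.mem_map.mp hx
      exact show m22 y < 9 from m22_lt y (hlt y hy)), Equiv.Perm.one_apply]
    simpa using h1
  obtain ⟨χ, hχ⟩ := setup.exists_hom (Fi22.setup.g ∘ m22) (fun x hx => by
      show Fi22.setup.g (m22 x) * Fi22.setup.g (m22 x) = 1
      exact Fi22.setup.of_sq _) (fun w hw => by
      rw [← prodw_map]
      exact hfix w (words_lt w hw) (List.all_eq_true.mp fixes22 w hw))
  obtain ⟨χ', hχ'⟩ := setup.exists_hom (Fi23.setup.g ∘ m23) (fun x hx => by
      show Fi23.setup.g (m23 x) * Fi23.setup.g (m23 x) = 1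
      exact Fi23.setup.of_sq _) (fun w hw => by
      rw [← prodw_map]
      exact Fi23.setup.prod_mem _ (of_decide_eq_true (List.all_eq_true.mp words23 w hw)))
  have hle : Fi22O.enum.H ≤ χ.range := by
    refine (Subgroup.closure_le _).mpr ?_
    rintro _ ⟨s, hs, rfl⟩
    have hs' : s < 8 := hs
    refine ⟨setup.g ([5, 4, 3, 2, 1, 0, 6, 7].getD s 0), ?_⟩
    have hlt : [5, 4, 3, 2, 1, 0, 6, 7].getD s 0 < 8 := by interval_cases s <;> decide
    rw [hχ _ (show _ < setup.k from hlt)]
    interval_cases s <;> simp [prodw, m22, Fi22O.enum, Fi22O.sW]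
  have hO : 4585351680 ≤ Nat.card Fi22O.enum.H := by
    obtain ⟨-, e', -, -, -⟩ := Fi22O.action
    have h := Subgroup.card_eq_card_quotient_mul_card_subgroup Fi22O.enum.H
    rw [hG, Nat.card_congr e', Nat.card_fin, show Fi22O.enum.n = 14080 from rfl] at h
    omega
  have hχinj : Function.Injective χ := by
    have h1 : Nat.card χ.range ≤ Nat.card setup.Grp :=
      Nat.card_le_card_of_surjective _ χ.rangeRestrict_surjective
    have h2 := hO.trans (Nat.card_le_card_of_injective _ (Subgroup.inclusion_injective hle))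
    have hb : Function.Bijective χ.rangeRestrict :=
      (Nat.bijective_iff_surjective_and_card _).mpr ⟨χ.rangeRestrict_surjective, by
        have := card_le.2
        omega⟩
    exact fun a b h => hb.1 (Subtype.ext h)
  have h0 : prodw setup.g eWord = 1 := by
    apply hχinj
    rw [map_one, setup.hom_prodw χ hχ _ (fun x hx => show x < 8 from eWord_lt x hx), ← prodw_map]
    exact hfix eWord eWord_lt eWord_fixes22
  rw [prodw_map, ← setup.hom_prodw χ' hχ' _ (fun x hx => show x < 8 from eWord_lt x hx), h0, map_one]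

end CfsgLib.CosetEnum.Fi23E7
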